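import Groth.Agent.AlgStBasic.PropDescend
import Groth.Agent.AlgStBasic.LocalLift
import Groth.Agent.AlgStBasic.InertiaDescent
import Groth.Agent.AlgStBasic.AffCalc
import Groth.Agent.AlgStBasic.SpaceProps
import Groth.Agent.AlgSp2.FiniteTfae
import Groth.Agent.AlgSp2.AffineRows

/-!
# Finiteness of functors representable by algebraic spaces, and descent along families of etale charts
-/

set_option autoImplicit false
set_option backward.isDefEq.respectTransparency false
set_option backward.isDefEq.respectTransparency.types false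

universe u

open CategoryTheory CategoryTheory.Limits AlgebraicGeometry Opposite
open Groth.StkBase Groth.AlgSpBasic Groth.AlgStBasic

noncomputable section

namespace Groth.GitQuot.StkInertia

variable {S : Scheme.{u}} {𝒳 𝒴 𝒵 : AlgSt.Cat S}

theorem stableBaseChange_isFiniteMor : StableBaseChange (AlgSp.IsFiniteMor (S := S)) := by
  rw [isFiniteMor_eq]
  exact stableBaseChange_repWith _

theorem isLocalOnBase_fppf_isFiniteMor :
    AlgSp.IsLocalOnBase AlgSp.IsFppfCover (AlgSp.IsFiniteMor (S := S)) :=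
  isLocalOnBase_fppf_of_fpqc Groth.AlgSp2.isLocalOnBase_fpqc_isFiniteMor

/-- A proper and locally quasi-finite functor representable by algebraic spaces is finite. -/
theorem repWith_finite_of_proper_lqf {f : 𝒳 ⥤ᵇ 𝒴}
    (hp : AlgSt.RepByAlgSpWith AlgSp.IsProperMor f)
    (hq : AlgSt.RepByAlgSpWith (AlgSp.LocP (@LocallyQuasiFinite ⊓ @LocallyOfFiniteType)) f) :
    AlgSt.RepByAlgSpWith AlgSp.IsFiniteMor f := by
  intro U y
  obtain ⟨F, e, he, hp'⟩ := hp U y
  exact ⟨F, e, he, Groth.AlgSp2.isFiniteMor_of_univClosed_sep_lqf F.property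
    (AlgSp.IsAlgSpace.yon_obj U) hp'.2.2 hp'.1
    (prop_of_repWith_fp stableBaseChange_locP hq y F e he)⟩

/-- An object over `U` lifts etale locally near a point in the image of an etale chart. -/
theorem exists_etale_lift {h : 𝒵 ⥤ᵇ 𝒴} (hZ : FibCat.IsFibGrpd 𝒵.p) (hY : FibCat.IsFibGrpd 𝒴.p)
    (hh : AlgSt.RepByAlgSpWith AlgSp.IsEtaleMor h) {U : Over S} (y : FibCat.overCat U ⥤ᵇ 𝒴)
    (t : ↥U.left) (ht : AlgSt.Points.ofChart y t ∈ Set.range (AlgSt.Points.map h)) :
    ∃ (W : Over S) (c : W ⟶ U), Etale c.left ∧ t ∈ Set.range c.left ∧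
      ∃ z : FibCat.overCat W ⥤ᵇ 𝒵,
        Nonempty (BasedFunctor.comp z h ≅ BasedFunctor.comp (AlgSt.overMap c) y) := by
  obtain ⟨F, e, he, hq⟩ := hh U y
  obtain ⟨W, r, hr, hrs⟩ := F.property.atlas
  let Φ := BasedFunctor.comp e (FibCat.fpFst y h)
  obtain ⟨c, hc⟩ := (AlgSp.yon S).map_surjective (r ≫ AlgSt.spMapOfOver Φ)
  have hce : Etale c.left := by
    have := hq r hr
    rw [← hc] at this
    exact (AlgSp.repWith_yon_map_iff _ _).1 this
  refine ⟨W, c, hce, ?_, exists_lift_of_section y e r c hc⟩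
  obtain ⟨p, hp⟩ := ht
  obtain ⟨w, hw, -⟩ := exists_points_fp hZ hY (isFibGrpd_overCat U) h y
    (AlgSt.Points.ofChart (BasedFunctor.id _) t) p (by rw [← ofChart_eq_map, hp])
  obtain ⟨w', rfl⟩ := (bijective_map_of_isEquivOver he).2 w
  obtain ⟨w'', rfl⟩ := bijective_spPt.2 w'
  obtain ⟨v, rfl⟩ := surjective_ofPt_of_repWith hrs w''
  refine ⟨v, (bijective_ofChart_id (T := U)).1 ?_⟩
  rw [← ofChart_overMap, ← hw, spPt_ofPt, ← map_comp, ofChart_eq_map (overMapOf r.hom), ← map_comp,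
    ← ofChart_eq_map]
  let ρ : FibCat.overCat W ⥤ᵇ AlgSt.ofSp F.obj := overMapOf r.hom
  let T := AlgSt.toOverCat U
  obtain ⟨β⟩ := nonempty_iso_pshMapOf (BasedFunctor.comp Φ (AlgSt.ofOverCat U))
  have γ : Φ ≅ BasedFunctor.comp (Stk.ofPshMap (AlgSt.spMapOfOver Φ).hom) T :=
    whiskerRightIso (β.trans (eqToIso (congrArg Stk.ofPshMap (spMapOfOver_hom_eq Φ).symm))) T
  obtain ⟨δ⟩ := nonempty_overMapOf_iso c
  have heq : overMapOf (r ≫ AlgSt.spMapOfOver Φ).hom = overMapOf ((AlgSp.pyon S).map c) := by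
    rw [show r ≫ AlgSt.spMapOfOver Φ = (AlgSp.yon S).map c from hc.symm]
    rfl
  have δ' : BasedFunctor.comp ρ (BasedFunctor.comp (Stk.ofPshMap (AlgSt.spMapOfOver Φ).hom) T)
      ≅ AlgSt.overMap c :=
    (eqToIso (congrArg (fun m => BasedFunctor.comp m T) heq)).trans δ
  exact (congrFun (ofChart_eq_of_iso ((whiskerLeftIso ρ γ).trans δ')) v).symm

/-- Membership in the fppf topology of an etale family which is jointly surjective. -/
theorem ofArrows_mem_of_etale {ι : Type u} {U : Over S} {W : ι → Over S} (c : ∀ i, W i ⟶ U)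
    (hc : ∀ i, Etale (c i).left) (hs : ∀ t, ∃ i, t ∈ Set.range (c i).left) :
    Sieve.ofArrows W c ∈ AlgSp.J S U := by
  rw [GrothendieckTopology.mem_over_iff]
  refine GrothendieckTopology.superset_covering _ ?_ (Precoverage.generate_mem_toGrothendieck
    (show Presieve.ofArrows (fun i => (W i).left) (fun i => (c i).left) ∈
        Scheme.fppfPrecoverage U.left from
      (Scheme.ofArrows_mem_precoverage_iff _).2 ⟨hs, fun i => by
        have := hc i
        exact ⟨inferInstance, inferInstance⟩⟩))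
  rw [Sieve.generate_le_iff]
  rintro _ _ ⟨i⟩
  rw [Sieve.overEquiv_iff]
  refine ⟨W i, Over.homMk (𝟙 _) (by simp), c i, ⟨i⟩, ?_⟩
  ext
  simp

variable {P : MorphismProperty (AlgSp.Sp S)}

/-- A property fppf local on the base may be tested on the members of covering sieves. -/
theorem repWith_of_locally_tests (hb : StableBaseChange P)
    (hP : AlgSp.IsLocalOnBase AlgSp.IsFppfCover P) {f : 𝒳 ⥤ᵇ 𝒴} (hf : AlgSt.RepByAlgSp1 f)
    (hg : ∀ (U : Over S) (y : FibCat.overCat U ⥤ᵇ 𝒴), ∃ R ∈ AlgSp.J S U,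
      ∀ ⦃V : Over S⦄ (h : V ⟶ U), R.arrows h →
        RepFst P (FibCat.fpFst (BasedFunctor.comp (AlgSt.overMap h) y) f)) :
    AlgSt.RepByAlgSpWith P f := by
  intro U y
  obtain ⟨F, e, he⟩ := hf U y
  refine ⟨F, e, he, ?_⟩
  let π := AlgSt.spMapOfOver (BasedFunctor.comp e (FibCat.fpFst y f))
  obtain ⟨R, hR, hR'⟩ := hg U y
  obtain ⟨V, i, hi, hcov⟩ := exists_fppfCover_of_mem hR
  have := hb.respectsIso
  have key : ∀ x, RepFst (onSpaces P)
      (FibCat.fpFst (overMapOf ((AlgSp.pyon S).map (i x))) (Stk.ofPshMap π.hom)) := by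
    intro x
    let M := AlgSt.overMap (i x)
    let T := AlgSt.toOverCat U
    let ξ := overMapOf ((AlgSp.pyon S).map (i x))
    have hy : RepFst (onSpaces P) (FibCat.fpFst (BasedFunctor.comp M y) f) :=
      RepFst.mono (fun _ _ _ hA hB hp => ⟨hA, hB, hp⟩) (P := P) (hR' (i x) (hi x))
    have hT := isEquivOver_toOverCat U
    have := full_of_isEquivOver hT
    have := faithful_of_isEquivOver hT
    obtain ⟨β⟩ := nonempty_iso_pshMapOf
      (BasedFunctor.comp (BasedFunctor.comp e (FibCat.fpFst y f)) (AlgSt.ofOverCat U))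
    have γ : BasedFunctor.comp (Stk.ofPshMap π.hom) T
        ≅ BasedFunctor.comp e (FibCat.fpFst y f) := by
      have γ' : Stk.ofPshMap π.hom
          ≅ BasedFunctor.comp (BasedFunctor.comp e (FibCat.fpFst y f)) (AlgSt.ofOverCat U) :=
        (eqToIso (congrArg Stk.ofPshMap (spMapOfOver_hom_eq _))).trans β.symm
      exact whiskerRightIso γ' T
    obtain ⟨δ⟩ := nonempty_overMapOf_iso (i x)
    have hE : FibCat.IsEquivOver (BasedFunctor.comp (fpPost ξ (Stk.ofPshMap π.hom) T)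
        (BasedFunctor.comp (fpCongr δ γ)
          (BasedFunctor.comp (fpPre (BasedFunctor.id _) e M (FibCat.fpFst y f)) (fpPaste M y f)))) :=
      isEquivOver_comp (isEquivOver_fpPost ξ _ T) (isEquivOver_comp (isEquivOver_fpCongr δ γ)
        (isEquivOver_comp (isEquivOver_fpPre (isEquivOver_id _) he _ _) (isEquivOver_fpPaste M y f)))
    obtain ⟨E', hE', -, ⟨b⟩⟩ := isEquivOver_symm hE
    exact RepFst.of_equiv hE' (whiskerRightIso b (FibCat.fpFst _ _)) hy
  have hsh : ∀ x, AlgSp.IsAlgSpace (pullback π ((AlgSp.yon S).map (i x))) := fun x =>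
    isAlgSpace_of_isPullback (IsPullback.of_hasPullback _ _) (AlgSp.IsAlgSpace.yon_obj U).diag
      F.property (AlgSp.IsAlgSpace.yon_obj (V x))
  refine (hP (fun x => (AlgSp.yon S).obj (V x)) (fun x => (AlgSp.yon S).map (i x))
    (AlgSp.IsAlgSpace.yon_obj U) (fun x => AlgSp.IsAlgSpace.yon_obj _) hcov π F.property
    (fun x => pullback π ((AlgSp.yon S).map (i x))) (fun x => pullback.snd _ _)
    (fun x => pullback.fst _ _) hsh (fun x => IsPullback.of_hasPullback _ _)).2 fun x => ?_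
  exact (prop_snd_of_repFst
    ((IsPullback.of_hasPullback π ((AlgSp.yon S).map (i x))).map (sheafToPresheaf (AlgSp.J S) (Type (u + 1))))
    (pullback π ((AlgSp.yon S).map (i x))).property (key x)).2.2

/-- A property fppf local on the base descends along a family of etale charts covering all points. -/
theorem repWith_of_etale_charts (hY : FibCat.IsFibGrpd 𝒴.p) (hb : StableBaseChange P)
    (hP : AlgSp.IsLocalOnBase AlgSp.IsFppfCover P) {f : 𝒳 ⥤ᵇ 𝒴} (hf : AlgSt.RepByAlgSp1 f)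
    (hloc : ∀ x : AlgSt.Points 𝒴, ∃ (𝒰 : AlgSt.Cat S) (h : 𝒰 ⥤ᵇ 𝒴), FibCat.IsFibGrpd 𝒰.p ∧
      x ∈ Set.range (AlgSt.Points.map h) ∧ AlgSt.RepByAlgSpWith AlgSp.IsEtaleMor h ∧
      AlgSt.RepByAlgSpWith P (FibCat.fpFst h f)) :
    AlgSt.RepByAlgSpWith P f := by
  refine repWith_of_locally_tests hb hP hf fun U y => ?_
  choose 𝒰 h hU hx hh hPh using fun t : ↥U.left => hloc (AlgSt.Points.ofChart y t)
  choose W c hc hct z hz using fun t => exists_etale_lift (hU t) hY (hh t) y t (hx t)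
  refine ⟨Sieve.ofArrows W c, ofArrows_mem_of_etale c hc fun t => ⟨t, hct t⟩, fun V k hk => ?_⟩
  obtain ⟨_, l, _, ⟨t⟩, rfl⟩ := hk
  obtain ⟨α⟩ := hz t
  obtain ⟨ε⟩ := nonempty_overMap_comp_iso l (c t)
  let z' := BasedFunctor.comp (AlgSt.overMap l) (z t)
  have α' : BasedFunctor.comp z' (h t) ≅ BasedFunctor.comp (AlgSt.overMap (l ≫ c t)) y :=
    (whiskerLeftIso (AlgSt.overMap l) α).trans (whiskerRightIso ε y)
  exact RepFst.of_equiv (isEquivOver_comp (isEquivOver_fpPaste z' (h t) f)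
    (isEquivOver_fpCongr α' (Iso.refl f))) (Iso.refl _) (hPh t V z')

end Groth.GitQuot.StkInertia
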