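import Groth.Agent.GitQuot.StkInertia.Etale
import Groth.Agent.AlgStBasic.Faithful

/-!
# The inertia of a chart as a base change of the inertia
-/

set_option autoImplicit false
set_option backward.isDefEq.respectTransparency false
set_option backward.isDefEq.respectTransparency.types false

universe u

open CategoryTheory CategoryTheory.Limits AlgebraicGeometry Opposite
open Groth.StkBase Groth.AlgSpBasic Groth.AlgStBasic

noncomputable section

namespace Groth.GitQuot.StkInertia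

variable {S : Scheme.{u}} {𝒰 𝒳 : AlgSt.Cat S} (h : 𝒰 ⥤ᵇ 𝒳)

theorem isVert_inertia_aut (x : (FibCat.inertia (FibCat.toSelf 𝒰)).obj) :
    IsVert 𝒰.p x.aut.hom :=
  ⟨rfl, x.map_aut.trans (eqToHom_refl _ _).symm⟩

/-- The map of inertias induced by `h`. -/
def inertiaMap : FibCat.inertia (FibCat.toSelf 𝒰) ⥤ᵇ FibCat.inertia (FibCat.toSelf 𝒳) where
  toFunctor :=
    { obj := fun (x : (FibCat.inertia (FibCat.toSelf 𝒰)).obj) => ⟨h.obj x.pt, h.toFunctor.mapIso x.aut,
        (isVert_map (F := h) (isVert_inertia_aut x)).map_eq.trans (eqToHom_refl _ _)⟩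
      map := fun {x y} φ => ⟨h.map φ.hom,
        (h.toFunctor.map_comp _ _).symm.trans
          ((congrArg h.toFunctor.map φ.comm).trans (h.toFunctor.map_comp _ _))⟩
      map_id := fun x => FibCat.InertiaObj.hom_ext (h.toFunctor.map_id x.pt)
      map_comp := fun φ ψ => FibCat.InertiaObj.hom_ext (h.toFunctor.map_comp φ.hom ψ.hom) }
  w := by
    refine CategoryTheory.Functor.ext (fun x => ?_) (fun a b φ => ?_)
    · exact h.w_obj x.pt
    · exact map_map h φ.hom

/-- The comparison of the inertia of `𝒰` with the base change of the inertia of `𝒳`. -/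
def inertiaToBC : FibCat.inertia (FibCat.toSelf 𝒰) ⥤ᵇ
    FibCat.fp h (FibCat.inertiaToBase (FibCat.toSelf 𝒳)) :=
  FibCat.fpLift (FibCat.inertiaToBase _) (inertiaMap h)
    (isoMk (F := BasedFunctor.comp (FibCat.inertiaToBase (FibCat.toSelf 𝒰)) h)
      (G := BasedFunctor.comp (inertiaMap h) (FibCat.inertiaToBase (FibCat.toSelf 𝒳)))
      (fun x => Iso.refl (h.obj x.pt))
      (fun _ => (Category.comp_id _).trans (Category.id_comp _).symm) fun _ => isVert_id _)

theorem isEquivOver_inertiaToBC (hU : FibCat.IsFibGrpd 𝒰.p)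
    (hf : h.toFunctor.Faithful)
    (hs : ∀ (x : 𝒰.obj) (β : h.obj x ⟶ h.obj x), IsVert 𝒳.p β →
      ∃ α : x ⟶ x, IsVert 𝒰.p α ∧ h.map α = β) :
    FibCat.IsEquivOver (inertiaToBC h) := by
  refine isEquivOver_of_fullyFaithful _ ⟨fun {x y} g => ?_⟩ ⟨fun {x y} g g' e => ?_⟩ (fun z => ?_)
  · have w : h.map g.hom.fst ≫ 𝟙 _ = 𝟙 _ ≫ g.hom.snd.hom := g.hom.w
    rw [Category.comp_id, Category.id_comp] at w
    have c : h.map x.aut.hom ≫ g.hom.snd.hom = g.hom.snd.hom ≫ h.map y.aut.hom := g.hom.snd.comm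
    rw [← w, ← h.toFunctor.map_comp] at c
    have c' : x.aut.hom ≫ g.hom.fst = g.hom.fst ≫ y.aut.hom :=
      hf.map_injective (c.trans (h.toFunctor.map_comp _ _).symm)
    exact ⟨⟨g.hom.fst, c'⟩, fp_hom_ext rfl (FibCat.InertiaObj.hom_ext w)⟩
  · exact FibCat.InertiaObj.hom_ext (congrArg (fun t => t.hom.fst) e)
  · let ξ := z.obj.snd
    let i : h.obj z.obj.fst ≅ ξ.pt := z.obj.iso
    have hi : IsVert 𝒳.p i.hom := fp_isVert z
    have hξ : IsVert 𝒳.p ξ.aut.hom := isVert_inertia_aut ξ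
    obtain ⟨α, hα, hαe⟩ := hs z.obj.fst (i.hom ≫ ξ.aut.hom ≫ i.inv) (hi.comp (hξ.comp hi.inv))
    have := hα.isIso hU
    let x : (FibCat.inertia (FibCat.toSelf 𝒰)).obj :=
      ⟨z.obj.fst, asIso α, hα.map_eq.trans (eqToHom_refl _ _)⟩
    have c : h.map α ≫ i.hom = i.hom ≫ ξ.aut.hom := by
      rw [hαe]; simp
    have c' : ξ.aut.hom ≫ i.inv = i.inv ≫ h.map α := by
      rw [hαe]; simp
    let j : ((inertiaToBC h).obj x).obj.snd ≅ ξ :=
      { hom := ⟨i.hom, c⟩
        inv := ⟨i.inv, c'⟩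
        hom_inv_id := FibCat.InertiaObj.hom_ext i.hom_inv_id
        inv_hom_id := FibCat.InertiaObj.hom_ext i.inv_hom_id }
    refine ⟨x, fpObjIso (Iso.refl _) j ?_, (isVert_fp_iff _).2 (isVert_id _)⟩
    show h.map (𝟙 z.obj.fst) ≫ i.hom = 𝟙 (h.obj z.obj.fst) ≫ i.hom
    congr 1
    exact h.toFunctor.map_id _

theorem inertiaToBC_fpFst :
    BasedFunctor.comp (inertiaToBC h) (FibCat.fpFst h (FibCat.inertiaToBase (FibCat.toSelf 𝒳)))
      = FibCat.inertiaToBase (FibCat.toSelf 𝒰) := rfl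

end Groth.GitQuot.StkInertia
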