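import Groth.Agent.AlgStBasic.StabilizerFree
import Groth.Agent.AlgSpEt.UnivHomeo
import Groth.Prelude.Def_StGerb2

/-!
# Sections of etale spaces and lifting of automorphisms along etale representable functors

A functor representable by algebraic spaces and etale which is surjective on automorphism groups of
objects over algebraically closed fields is surjective on all automorphism groups.
-/

set_option autoImplicit false
set_option backward.isDefEq.respectTransparency false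
set_option backward.isDefEq.respectTransparency.types false

universe u

open CategoryTheory CategoryTheory.Limits AlgebraicGeometry Opposite
open Groth.StkBase Groth.AlgSpBasic Groth.AlgStBasic

noncomputable section

namespace Groth.GitQuot.StkInertia

variable {S : Scheme.{u}}

/-- Maps to a space etale over `Y` which agree at all geometric points are equal. -/
theorem eq_of_geom_points {V Y : AlgSp.Sp S} (hV : AlgSp.IsAlgSpace V) (hY : AlgSp.IsAlgSpace Y)
    {a : V ⟶ Y} (ha : AlgSp.IsEtaleMor a) {T : Over S} {φ₁ φ₂ : (AlgSp.yon S).obj T ⟶ V}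
    (h : φ₁ ≫ a = φ₂ ≫ a)
    (hg : ∀ (K : Type u) [Field K] [IsAlgClosed K] (str : Spec (CommRingCat.of K) ⟶ S)
      (g : Over.mk str ⟶ T), (AlgSp.yon S).map g ≫ φ₁ = (AlgSp.yon S).map g ≫ φ₂) : φ₁ = φ₂ := by
  have hd := repWith_diagonal_of_unramified hV hY
    (locP_mono etale_le_unramified (locP_of_isEtaleMor ha))
  obtain ⟨E, j, e, sq⟩ := hd.rep (pullback.lift φ₁ φ₂ h)
  have : IsOpenImmersion j.left := hd.property _ e j sq
  have : Surjective j.left := ⟨fun t => by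
    let K := AlgebraicClosure (T.left.residueField t)
    let ι : Spec (CommRingCat.of K) ⟶ Spec (T.left.residueField t) :=
      Spec.map (CommRingCat.ofHom (algebraMap (T.left.residueField t) K))
    let v : Spec (CommRingCat.of K) ⟶ T.left := ι ≫ T.left.fromSpecResidueField t
    let g : Over.mk (v ≫ T.hom) ⟶ T := Over.homMk v rfl
    obtain ⟨l, hl⟩ := (AlgSp.yon S).map_surjective
      (sq.lift ((AlgSp.yon S).map g ≫ φ₁) ((AlgSp.yon S).map g) (by
        apply pullback.hom_ext <;> simp [hg K _ g]))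
    have hlj : l ≫ j = g := (AlgSp.yon S).map_injective (by
      rw [Functor.map_comp, hl, sq.lift_snd])
    refine ⟨l.left (IsLocalRing.closedPoint K), ?_⟩
    calc j.left (l.left (IsLocalRing.closedPoint K)) = v (IsLocalRing.closedPoint K) :=
          congrArg (fun k : Over.mk (v ≫ T.hom) ⟶ T => k.left (IsLocalRing.closedPoint K)) hlj
      _ = t := Scheme.fromSpecResidueField_apply t _⟩
  have : IsIso j.left := (isIso_iff_isOpenImmersion_and_surjective _).2 ⟨inferInstance, this⟩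
  have : IsIso ((Over.forget S).map j) := this
  have : IsIso j := isIso_of_reflects_iso j (Over.forget S)
  have h₁ := sq.w =≫ pullback.fst a a
  have h₂ := sq.w =≫ pullback.snd a a
  simp only [Category.assoc, pullback.diagonal_fst, pullback.diagonal_snd, Category.comp_id,
    pullback.lift_fst, pullback.lift_snd] at h₁ h₂
  exact (cancel_epi ((AlgSp.yon S).map j)).1 (h₁.symm.trans h₂)

variable {𝒰 𝒳 : AlgSt.Cat S}

/-- Surjectivity on automorphisms of the objects over algebraically closed fields. -/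
def GeomAutSurj (h : 𝒰 ⥤ᵇ 𝒳) : Prop :=
  ∀ (Ω : Type u) [Field Ω] [IsAlgClosed Ω] (t : Spec (CommRingCat.of Ω) ⟶ S)
    (u : 𝒰.p.Fiber (Over.mk t)), Function.Surjective (Gerb.autMap h u.1)

/-- Over an algebraically closed field every vertical endomorphism of an image lifts. -/
theorem exists_lift_geom {h : 𝒰 ⥤ᵇ 𝒳} (hX : FibCat.IsFibGrpd 𝒳.p) (hs : GeomAutSurj h)
    {Ω : Type u} [Field Ω] [IsAlgClosed Ω] {t : Spec (CommRingCat.of Ω) ⟶ S} {x : 𝒰.obj}
    (hx : 𝒰.p.obj x = Over.mk t) {γ : h.obj x ⟶ h.obj x} (hγ : IsVert 𝒳.p γ) :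
    ∃ α : x ⟶ x, IsVert 𝒰.p α ∧ h.map α = γ := by
  have := hγ.isIso hX
  let b : Gerb.AutO (h.obj x) :=
    { hom := ⟨γ, hγ.isHomLift rfl⟩
      inv := ⟨(asIso γ).inv, (IsVert.inv (φ := asIso γ) hγ).isHomLift rfl⟩
      hom_inv_id := Functor.Fiber.hom_ext (asIso γ).hom_inv_id
      inv_hom_id := Functor.Fiber.hom_ext (asIso γ).inv_hom_id }
  obtain ⟨a, ha⟩ := hs Ω t ⟨x, hx⟩ b
  exact ⟨a.hom.1, @isVert_of_isHomLift _ _ _ _ _ _ _ _ _ a.hom.2,
    congrArg (fun c : Gerb.AutO (h.obj x) => c.hom.1) ha⟩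

/-- An etale representable functor which is surjective on automorphisms of the objects over algebraically
closed fields is surjective on all automorphisms. -/
theorem exists_aut_lift (hU : FibCat.IsFibGrpd 𝒰.p) (hX : FibCat.IsFibGrpd 𝒳.p) {h : 𝒰 ⥤ᵇ 𝒳}
    (he : AlgSt.RepByAlgSpWith AlgSp.IsEtaleMor h) (hs : GeomAutSurj h) (x : 𝒰.obj)
    {β : h.obj x ⟶ h.obj x} (hβ : IsVert 𝒳.p β) :
    ∃ α : x ⟶ x, IsVert 𝒰.p α ∧ h.map α = β := by
  let T := 𝒰.p.obj x
  have := hβ.isIso hX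
  have hT : 𝒳.p.obj (h.obj x) = T := h.w_obj x
  obtain ⟨i, hi⟩ := overFunctor_eval hX (h.obj x) hT
  let y := overFunctor hX (h.obj x) hT
  let A₀ : (FibCat.fp y h).obj := fpMk (idObj T) x i hi
  let B₀ : (FibCat.fp y h).obj := fpMk (idObj T) x (i ≪≫ asIso β) (hi.comp hβ)
  obtain ⟨F, e, hE, hq⟩ := he T y
  obtain ⟨⟨TA, σA⟩, iA, hiA⟩ := exists_vert_preimage hE A₀
  obtain ⟨⟨TB, σB⟩, iB, hiB⟩ := exists_vert_preimage hE B₀
  let Φ := BasedFunctor.comp e (FibCat.fpFst y h)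
  let Ψ := BasedFunctor.comp e (FibCat.fpSnd y h)
  have hTA : TA = T := (Φ.w_obj ⟨TA, σA⟩).symm.trans hiA.obj_eq
  have hTB : TB = T := (Φ.w_obj ⟨TB, σB⟩).symm.trans hiB.obj_eq
  subst TA
  subst TB
  let q := AlgSt.spMapOfOver Φ
  -- both sections lie over the identity
  have hsec : ∀ (σ : F.obj.obj.obj (op T)) (x' : 𝒰.obj) (k : y.obj (idObj T) ≅ h.obj x')
      (hk : IsVert 𝒳.p k.hom) (j : e.obj ⟨T, σ⟩ ≅ fpMk (idObj T) x' k hk),
      IsVert (FibCat.fp y h).p j.hom → q.hom.app (op T) σ = ⟨𝟙 T⟩ := by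
    intro σ x' k hk j hj
    rw [AlgSt.spMapOfOver_app]
    apply ULift.ext
    show eqToHom (Φ.w_obj ⟨T, σ⟩).symm ≫ (Φ.obj ⟨T, σ⟩).hom = 𝟙 T
    have hw : j.hom.hom.fst.left ≫ 𝟙 T = (Φ.obj ⟨T, σ⟩).hom := Over.w j.hom.hom.fst
    have hl : j.hom.hom.fst.left = eqToHom hj.obj_eq := hj.map_eq
    rw [← hw, hl]
    simp
  have hA : q.hom.app (op T) σA = ⟨𝟙 T⟩ := hsec σA x i hi iA hiA
  have hB : q.hom.app (op T) σB = ⟨𝟙 T⟩ := hsec σB x _ _ iB hiB
  let a : (AlgSp.yon S).obj T ⟶ F.obj := yEquiv.symm σA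
  let b : (AlgSp.yon S).obj T ⟶ F.obj := yEquiv.symm σB
  have hyq : ∀ σ : F.obj.obj.obj (op T), yEquiv (yEquiv.symm σ ≫ q)
      = q.hom.app (op T) σ := fun σ => by
    refine ((AlgSp.J S).uliftYonedaEquiv_comp _ q).trans ?_
    erw [Equiv.apply_symm_apply]
  have hab : a = b := by
    refine eq_of_geom_points F.property (AlgSp.IsAlgSpace.yon_obj T) (a := q) hq
      (yEquiv.injective ((hyq σA).trans (hA.trans (hB.symm.trans (hyq σB).symm))))
      fun K _ _ str g => ?_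
    apply yEquiv.injective
    refine ((AlgSp.J S).uliftYonedaEquiv_naturality a g).symm.trans
      (Eq.trans ?_ ((AlgSp.J S).uliftYonedaEquiv_naturality b g))
    show F.obj.obj.map g.op (yEquiv (yEquiv.symm σA)) =
      F.obj.obj.map g.op (yEquiv (yEquiv.symm σB))
    erw [Equiv.apply_symm_apply, Equiv.apply_symm_apply]
    -- the two restricted objects
    let AK : (AlgSt.ofSp F.obj).obj := ⟨Over.mk str, F.obj.obj.map g.op σA⟩
    let BK : (AlgSt.ofSp F.obj).obj := ⟨Over.mk str, F.obj.obj.map g.op σB⟩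
    let lA : AK ⟶ (⟨T, σA⟩ : (AlgSt.ofSp F.obj).obj) := eltHom g rfl
    let lB : BK ⟶ (⟨T, σB⟩ : (AlgSt.ofSp F.obj).obj) := eltHom g rfl
    let P := e.obj AK
    let Q := e.obj BK
    let mA : P.obj.snd ⟶ x := Ψ.map lA ≫ iA.hom.hom.snd
    let mB : Q.obj.snd ⟶ x := Ψ.map lB ≫ iB.hom.hom.snd
    have vA : IsVert 𝒰.p iA.hom.hom.snd := isVert_map (F := FibCat.fpSnd y h) hiA
    have vB : IsVert 𝒰.p iB.hom.hom.snd := isVert_map (F := FibCat.fpSnd y h) hiB
    have emA : 𝒰.p.map mA = eqToHom (Ψ.w_obj AK) ≫ g := by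
      have e₁ : 𝒰.p.map (Ψ.map lA) = eqToHom (Ψ.w_obj AK) ≫ g ≫ eqToHom (Ψ.w_obj ⟨T, σA⟩).symm :=
        map_map Ψ lA
      rw [Functor.map_comp, e₁, vA.map_eq]
      simp only [Category.assoc, eqToHom_trans]
      erw [eqToHom_refl, Category.comp_id]
    have emB : 𝒰.p.map mB = eqToHom (Ψ.w_obj BK) ≫ g := by
      have e₁ : 𝒰.p.map (Ψ.map lB) = eqToHom (Ψ.w_obj BK) ≫ g ≫ eqToHom (Ψ.w_obj ⟨T, σB⟩).symm :=
        map_map Ψ lB
      rw [Functor.map_comp, e₁, vB.map_eq]
      simp only [Category.assoc, eqToHom_trans]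
      erw [eqToHom_refl, Category.comp_id]
    obtain ⟨v, hv, -⟩ := exists_vert_iso_of_lifts hU mA mB
      ((Ψ.w_obj AK).trans (Ψ.w_obj BK).symm) (by
        rw [emA, emB, ← Category.assoc, eqToHom_trans])
    -- the components in the slice agree
    have eA : P.obj.fst.hom = eqToHom (Φ.w_obj AK) ≫ g := by
      have hw := Over.w (Φ.map lA ≫ iA.hom.hom.fst)
      have e₁ : (Φ.map lA).left = eqToHom (Φ.w_obj AK) ≫ g ≫ eqToHom (Φ.w_obj ⟨T, σA⟩).symm :=
        map_map Φ lA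
      have e₂ : iA.hom.hom.fst.left = eqToHom hiA.obj_eq := hiA.map_eq
      rw [← show (Φ.map lA ≫ iA.hom.hom.fst).left ≫ (idObj T).hom = P.obj.fst.hom from hw,
        Over.comp_left, e₁, e₂]
      simp only [Category.assoc, eqToHom_trans_assoc]
      erw [eqToHom_refl, Category.id_comp, Category.comp_id]
    have eB : Q.obj.fst.hom = eqToHom (Φ.w_obj BK) ≫ g := by
      have hw := Over.w (Φ.map lB ≫ iB.hom.hom.fst)
      have e₁ : (Φ.map lB).left = eqToHom (Φ.w_obj BK) ≫ g ≫ eqToHom (Φ.w_obj ⟨T, σB⟩).symm :=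
        map_map Φ lB
      have e₂ : iB.hom.hom.fst.left = eqToHom hiB.obj_eq := hiB.map_eq
      rw [← show (Φ.map lB ≫ iB.hom.hom.fst).left ≫ (idObj T).hom = Q.obj.fst.hom from hw,
        Over.comp_left, e₁, e₂]
      simp only [Category.assoc, eqToHom_trans_assoc]
      erw [eqToHom_refl, Category.id_comp, Category.comp_id]
    have hK : P.obj.fst.left = Q.obj.fst.left := (Φ.w_obj AK).trans (Φ.w_obj BK).symm
    let χ : P.obj.fst ⟶ Q.obj.fst := Over.homMk (eqToHom hK) (by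
      rw [eA, eB, ← Category.assoc, eqToHom_trans])
    have hχ : IsVert (FibCat.overCat T).p χ := ⟨hK, rfl⟩
    -- lift the discrepancy
    let γ : h.obj P.obj.snd ⟶ h.obj P.obj.snd :=
      P.obj.iso.inv ≫ y.map χ ≫ Q.obj.iso.hom ≫ h.map v.inv
    have hγ : IsVert 𝒳.p γ := (fp_isVert P).inv.comp ((isVert_map hχ).comp
      ((fp_isVert Q).comp (isVert_map hv.inv)))
    obtain ⟨α, hα, hαγ⟩ := exists_lift_geom hX hs (Ψ.w_obj AK : 𝒰.p.obj P.obj.snd = Over.mk str) hγ
    have hvv : h.map v.inv ≫ h.map v.hom = 𝟙 _ := by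
      rw [← Functor.map_comp, Iso.inv_hom_id]
      exact h.toFunctor.map_id _
    let ν : P ⟶ Q := fpHom χ (α ≫ v.hom) (by
      rw [Functor.map_comp, hαγ]
      simp only [γ, Category.assoc, Iso.hom_inv_id_assoc]
      rw [hvv]
      exact congrArg (y.map χ ≫ ·) (Category.comp_id _).symm)
    have hν : IsVert (FibCat.fp y h).p ν := (isVert_fp_iff ν).2 hχ
    have := full_of_isEquivOver hE
    obtain ⟨l, hl⟩ := e.toFunctor.map_surjective ν
    have hlv : IsVert (AlgSt.ofSp F.obj).p l := isVert_of_map (F := e) (by rw [hl]; exact hν)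
    have hlh : l.hom = 𝟙 (Over.mk str) := hlv.map_eq.trans (eqToHom_refl _ _)
    exact l.map_sec.symm.trans (map_op_id F.obj.obj _ hlh _)
  have hσ : σA = σB := yEquiv.symm.injective hab
  subst hσ
  let ν : A₀ ⟶ B₀ := iA.inv ≫ iB.hom
  have hν : IsVert (FibCat.fp y h).p ν := hiA.inv.comp hiB
  refine ⟨ν.hom.snd, isVert_map (F := FibCat.fpSnd y h) hν, ?_⟩
  have h1 : ν.hom.fst = 𝟙 (idObj T) :=
    Over.OverMorphism.ext (((isVert_fp_iff ν).1 hν).map_eq.trans (eqToHom_refl _ _))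
  have w := ν.hom.w
  rw [h1] at w
  simp [A₀, B₀, fpMk] at w
  exact w.symm

end Groth.GitQuot.StkInertia
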